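import Groth.Agent.Sep43Lib.Prod
import Groth.Agent.S4666
import Groth.Agent.Sep43Lib.Schematic
import Groth.Prelude.Def_FDesc

/-!
# Reduced images of geometrically reduced schemes and extensions of the base field
-/

set_option autoImplicit false
universe u

open CategoryTheory CategoryTheory.Limits AlgebraicGeometry TopologicalSpace Opposite TensorProduct

noncomputable section

namespace RedImgLib

theorem mem_vanishingIdeal_closure {X : Scheme.{u}} (S : Set X) (U : X.affineOpens) (a : Γ(X, U.1)) :
    a ∈ (Scheme.IdealSheafData.vanishingIdeal (Closeds.closure S)).ideal U ↔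
      ∀ y ∈ S, y ∈ U.1 → y ∉ X.basicOpen a := by
  show a ∈ PrimeSpectrum.vanishingIdeal (U.2.fromSpec ⁻¹' (closure S)) ↔ _
  rw [PrimeSpectrum.mem_vanishingIdeal]
  constructor
  · intro h y hy hyU hya
    obtain ⟨q, rfl⟩ := U.2.range_fromSpec.ge hyU
    have h2 : q ∈ PrimeSpectrum.basicOpen a := by
      rw [← U.2.fromSpec_preimage_basicOpen a]; exact hya
    exact h2 (h q (subset_closure hy))
  · intro h q hq
    by_contra hqa
    have h2 : U.2.fromSpec q ∈ X.basicOpen a := by
      have : q ∈ PrimeSpectrum.basicOpen a := hqa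
      rw [← U.2.fromSpec_preimage_basicOpen a] at this
      exact this
    obtain ⟨y, hya, hy⟩ := mem_closure_iff.mp hq _ (X.basicOpen a).2 h2
    exact h y hy (X.basicOpen_le a hya) hya

theorem mem_vanishingIdeal_iUnion {X : Scheme.{u}} {ι : Type u} {Z : ι → Scheme.{u}} [∀ i, IsReduced (Z i)]
    (f : ∀ i, Z i ⟶ X) (U : X.affineOpens) (a : Γ(X, U.1)) :
    a ∈ (Scheme.IdealSheafData.vanishingIdeal (Closeds.closure (⋃ i, Set.range (f i)))).ideal U ↔
      ∀ i, (f i).app U.1 a = 0 := by
  rw [mem_vanishingIdeal_closure]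
  constructor
  · intro h i
    rw [← AlgebraicGeometry.basicOpen_eq_bot_iff, ← Scheme.preimage_basicOpen, eq_bot_iff]
    intro z hz
    exact h _ (Set.mem_iUnion.mpr ⟨i, z, rfl⟩) (X.basicOpen_le a hz) hz
  · intro h y hy _ hya
    obtain ⟨i, z, rfl⟩ := Set.mem_iUnion.mp hy
    have : z ∈ (Z i).basicOpen ((f i).app U.1 a) := (Scheme.preimage_basicOpen (f i) a).le hya
    rw [h i, Scheme.basicOpen_zero] at this
    exact this

section

variable {X : Scheme.{u}} {k C : CommRingCat.{u}} (φ : k ⟶ C) (p : X ⟶ Spec k) {U : X.Opens}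
  (hU : IsAffineOpen U)

include hU in
/-- Functions on the base change of an affine open, with both structure maps. -/
theorem exists_prodIso :
    letI := Sep43Lib.baseAlg p U
    letI := φ.hom.toAlgebra
    ∃ e : (Γ(X, U) ⊗[k] C) ≃+* Γ(pullback p (Spec.map φ), Sep43Lib.prodOpen φ p U),
      (∀ a, e (a ⊗ₜ 1) = (pullback.fst p (Spec.map φ)).appLE U _ inf_le_left a) ∧
      ∀ c, e (1 ⊗ₜ c) =
        ((Scheme.ΓSpecIso C).inv ≫ (pullback.snd p (Spec.map φ)).appLE ⊤ _ inf_le_right) c := by
  letI := Sep43Lib.baseAlg p U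
  letI := φ.hom.toAlgebra
  have hP := RpushLib.isPushout_sections (IsPullback.of_hasPullback p (Spec.map φ)) (US := ⊤)
    (isAffineOpen_top _) (isAffineOpen_top _) (le_top : ⊤ ≤ Spec.map φ ⁻¹ᵁ ⊤) hU le_top
  have hP' : IsPushout ((Scheme.ΓSpecIso k).inv ≫ p.appLE ⊤ U le_top) φ
      ((pullback.fst p (Spec.map φ)).appLE U (Sep43Lib.prodOpen φ p U) inf_le_left)
      ((Scheme.ΓSpecIso C).inv ≫ (pullback.snd p (Spec.map φ)).appLE ⊤ (Sep43Lib.prodOpen φ p U) inf_le_right) := by
    refine hP.of_iso (Scheme.ΓSpecIso k) (Iso.refl _) (Scheme.ΓSpecIso C) (Iso.refl _) ?_ ?_ ?_ ?_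
    · simp
    · rw [← Scheme.ΓSpecIso_naturality]
      simp [Scheme.Hom.appLE]
    · exact (Category.comp_id _).trans (Category.id_comp _).symm
    · exact (Category.comp_id _).trans (Iso.hom_inv_id_assoc _ _).symm
  have hT := CommRingCat.isPushout_tensorProduct k Γ(X, U) C
  exact ⟨(hT.isoIsPushout _ _ hP').commRingCatIsoToRingEquiv,
    fun a => congr($(hT.inl_isoIsPushout_hom _ _ hP') a), fun c => congr($(hT.inr_isoIsPushout_hom _ _ hP') c)⟩

end

variable {k : Type u} [Field k] {X : Scheme.{u}} (p : X ⟶ Spec (CommRingCat.of k)) {ι : Type u}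
  (Z : ι → Scheme.{u}) (f : ∀ i, Z i ⟶ X)

theorem isReduced_of_geomReduced {Y : Scheme.{u}} (g : Y ⟶ Spec (CommRingCat.of k))
    (h : ∀ y, FBase.IsGeomReducedAt g y) (k' : Type u) [Field k'] [Algebra k k'] :
    IsReduced (pullback g (Spec.map (CommRingCat.ofHom (algebraMap k k')))) := by
  haveI : ∀ x : ↥(pullback g (Spec.map (CommRingCat.ofHom (algebraMap k k')))),
      _root_.IsReduced ((pullback g (Spec.map (CommRingCat.ofHom (algebraMap k k')))).presheaf.stalk x) :=
    fun x => h _ k' x rfl
  exact isReduced_of_isReduced_stalk _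

theorem isReduced_self {Y : Scheme.{u}} (g : Y ⟶ Spec (CommRingCat.of k))
    (h : ∀ y, FBase.IsGeomReducedAt g y) : IsReduced Y := by
  haveI := isReduced_of_geomReduced g h k
  haveI : IsIso (Spec.map (CommRingCat.ofHom (algebraMap k k))) := by
    rw [show CommRingCat.ofHom (algebraMap k k) = 𝟙 (CommRingCat.of k) from rfl]; infer_instance
  exact isReduced_of_isOpenImmersion (inv (pullback.fst g (Spec.map (CommRingCat.ofHom (algebraMap k k)))))

/-- The reduced image commutes with extension of the base field. -/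
theorem vanishingIdeal_baseChange (hred : ∀ (i : ι) (z : Z i), FBase.IsGeomReducedAt (f i ≫ p) z)
    (k' : Type u) [Field k'] [Algebra k k'] :
    letI q : Spec (CommRingCat.of k') ⟶ Spec (CommRingCat.of k) := Spec.map (CommRingCat.ofHom (algebraMap k k'))
    letI f' : ∀ i, pullback (f i ≫ p) q ⟶ pullback p q :=
      fun i => pullback.map (f i ≫ p) q p q (f i) (𝟙 _) (𝟙 _) (Category.comp_id _) ((Category.comp_id _).trans (Category.id_comp _).symm)
    Scheme.IdealSheafData.vanishingIdeal (TopologicalSpace.Closeds.closure (⋃ i, Set.range (f' i))) =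
      (Scheme.IdealSheafData.vanishingIdeal (TopologicalSpace.Closeds.closure (⋃ i, Set.range (f i)))).comap
        (pullback.fst p q) := by
  let φ := CommRingCat.ofHom (algebraMap k k')
  let q := Spec.map φ
  let f' : ∀ i, pullback (f i ≫ p) q ⟶ pullback p q :=
    fun i => pullback.map (f i ≫ p) q p q (f i) (𝟙 _) (𝟙 _) (Category.comp_id _) ((Category.comp_id _).trans (Category.id_comp _).symm)
  haveI : ∀ i, IsReduced (Z i) := fun i => isReduced_self (f i ≫ p) (hred i)
  haveI : ∀ i, IsReduced (pullback (f i ≫ p) q) := fun i => isReduced_of_geomReduced (f i ≫ p) (hred i) k'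
  let I := Scheme.IdealSheafData.vanishingIdeal (Closeds.closure (⋃ i, Set.range (f i)))
  let U' : X.affineOpens → (pullback p q).affineOpens := fun U =>
    ⟨Sep43Lib.prodOpen φ p U.1, Sep43Lib.isAffineOpen_prodOpen φ p U.2⟩
  refine Scheme.IdealSheafData.ext_of_iSup_eq_top U' (eq_top_iff.mpr fun x _ => ?_) fun U => ?_
  · obtain ⟨U, hU, hxU⟩ := QCohLib.exists_affine_nhd (pullback.fst p q x)
    exact Opens.mem_iSup.mpr ⟨⟨U, hU⟩, hxU, trivial⟩
  rw [Groth.Agent.S4666.ideal_comap_eq I (pullback.fst p q) U (U' U) inf_le_left]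
  ext a'
  rw [mem_vanishingIdeal_iUnion f' (U' U)]
  letI := Sep43Lib.baseAlg p U.1
  letI : Algebra (CommRingCat.of k) (CommRingCat.of k') := φ.hom.toAlgebra
  obtain ⟨e, he₁, he₂⟩ := exists_prodIso φ p U.2
  constructor
  · intro h
    obtain ⟨z, rfl⟩ := e.surjective a'
    let b := Module.Free.chooseBasis (CommRingCat.of k) (CommRingCat.of k')
    have hz : z ∈ (I.ideal U).map (Algebra.TensorProduct.includeLeftRingHom :
        Γ(X, U.1) →+* Γ(X, U.1) ⊗[CommRingCat.of k] CommRingCat.of k') := by
      rw [← (TensorProduct.equivFinsuppOfBasisRight b).symm_apply_apply z, TensorProduct.equivFinsuppOfBasisRight_symm_apply]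
      refine Ideal.sum_mem _ fun j hjs => ?_
      have hj : (TensorProduct.equivFinsuppOfBasisRight b) z j ∈ I.ideal U := by
        refine (mem_vanishingIdeal_iUnion f U _).mpr fun i => ?_
        refine Sep43Lib.eq_zero_of_forall_nhds _ fun y hy => ?_
        obtain ⟨W, hW, hyW, hWle⟩ :=
          Opens.isBasis_iff_nbhd.mp (Z i).isBasis_affineOpens (U := f i ⁻¹ᵁ U.1) (x := y) hy
        refine ⟨W, hWle, hyW, ?_⟩
        letI := Sep43Lib.baseAlg (f i ≫ p) W
        obtain ⟨eW, heW₁, heW₂⟩ := exists_prodIso φ (f i ≫ p) hW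
        let ψ : Γ(X, U.1) →ₐ[CommRingCat.of k] Γ(Z i, W) :=
          { ((f i).appLE U.1 W hWle).hom with
            commutes' := fun r => by
              show (f i).appLE U.1 W hWle (((Scheme.ΓSpecIso (CommRingCat.of k)).inv ≫ p.appLE ⊤ U.1 le_top) r) =
                ((Scheme.ΓSpecIso (CommRingCat.of k)).inv ≫ (f i ≫ p).appLE ⊤ W le_top) r
              rw [← CategoryTheory.comp_apply, Category.assoc, Scheme.Hom.appLE_comp_appLE] }
        have hW' : Sep43Lib.prodOpen φ (f i ≫ p) W ≤ f' i ⁻¹ᵁ (U' U).1 := by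
          intro w hw
          refine ⟨?_, trivial⟩
          show pullback.fst p q (f' i w) ∈ U.1
          rw [← Scheme.Hom.comp_apply, show f' i ≫ pullback.fst p q = pullback.fst (f i ≫ p) q ≫ f i from
            pullback.lift_fst _ _ _, Scheme.Hom.comp_apply]
          exact hWle hw.1
        have hcomp : ∀ w, (f' i).appLE (U' U).1 _ hW' (e w) =
            eW (Algebra.TensorProduct.map ψ (AlgHom.id _ _) w) := by
          intro w
          induction w using TensorProduct.induction_on with
          | zero => simp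
          | tmul r c =>
            rw [show r ⊗ₜ[CommRingCat.of k] c = (r ⊗ₜ 1) * (1 ⊗ₜ c) by simp, map_mul, map_mul, map_mul, map_mul,
              Algebra.TensorProduct.map_tmul, Algebra.TensorProduct.map_tmul, map_one, map_one, he₁, he₂,
              show eW (ψ r ⊗ₜ[CommRingCat.of k] (1 : CommRingCat.of k')) = _ from heW₁ (ψ r),
              show eW ((1 : Γ(Z i, W)) ⊗ₜ[CommRingCat.of k] (AlgHom.id _ _) c) = _ from heW₂ c]
            congr 1
            · rw [← CategoryTheory.comp_apply, Scheme.Hom.appLE_comp_appLE]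
              show _ = (pullback.fst (f i ≫ p) q).appLE W _ inf_le_left ((f i).appLE U.1 W hWle r)
              rw [← CategoryTheory.comp_apply, Scheme.Hom.appLE_comp_appLE]
              congr 3
              exact pullback.lift_fst _ _ _
            · rw [← CategoryTheory.comp_apply, Category.assoc, Scheme.Hom.appLE_comp_appLE]
              congr 4
              exact (pullback.lift_snd _ _ _).trans (Category.comp_id _)
          | add w w' hw hw' => simp only [map_add, hw, hw']
        have h0 : Algebra.TensorProduct.map ψ (AlgHom.id _ _) z = 0 := by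
          apply eW.injective
          rw [map_zero, ← hcomp, Scheme.Hom.appLE, CategoryTheory.comp_apply, h i, map_zero]
        have h1 : (TensorProduct.equivFinsuppOfBasisRight b)
            (Algebra.TensorProduct.map ψ (AlgHom.id _ _) z) j =
            ψ ((TensorProduct.equivFinsuppOfBasisRight b) z j) := by
          clear h0 hcomp h hjs
          induction z using TensorProduct.induction_on with
          | zero => simp
          | tmul r c => simp
          | add w w' hw hw' => simp only [map_add, Finsupp.add_apply, hw, hw']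
        rw [h0, map_zero, Finsupp.zero_apply] at h1
        exact h1.symm
      dsimp only
      rw [show (TensorProduct.equivFinsuppOfBasisRight b) z j ⊗ₜ[CommRingCat.of k] b j =
        ((TensorProduct.equivFinsuppOfBasisRight b) z j ⊗ₜ 1) * (1 ⊗ₜ b j) by simp]
      exact Ideal.mul_mem_right _ _ (Ideal.mem_map_of_mem _ hj)
    have h2 := Ideal.mem_map_of_mem e.toRingHom hz
    rwa [Ideal.map_map, show e.toRingHom.comp Algebra.TensorProduct.includeLeftRingHom =
      ((pullback.fst p q).appLE U.1 (U' U).1 inf_le_left).hom from RingHom.ext he₁] at h2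
  · intro h i
    suffices (I.ideal U).map ((pullback.fst p q).appLE U.1 (U' U).1 inf_le_left).hom ≤
        RingHom.ker ((f' i).app (U' U).1).hom from this h
    rw [Ideal.map_le_iff_le_comap]
    intro r hr
    rw [Ideal.mem_comap, RingHom.mem_ker]
    have h0 := (mem_vanishingIdeal_iUnion f U r).mp hr i
    have hle : f' i ⁻¹ᵁ (U' U).1 ≤ pullback.fst (f i ≫ p) q ⁻¹ᵁ (f i ⁻¹ᵁ U.1) := fun w hw => by
      show f i (pullback.fst (f i ≫ p) q w) ∈ U.1
      rw [← Scheme.Hom.comp_apply, ← show f' i ≫ pullback.fst p q = pullback.fst (f i ≫ p) q ≫ f i from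
        pullback.lift_fst _ _ _, Scheme.Hom.comp_apply]
      exact hw.1
    show (f' i).app (U' U).1 ((pullback.fst p q).appLE U.1 (U' U).1 inf_le_left r) = 0
    rw [← CategoryTheory.comp_apply, Scheme.Hom.app_eq_appLE, Scheme.Hom.appLE_comp_appLE]
    have key : (f' i ≫ pullback.fst p q).appLE U.1 _ ((f' i).preimage_mono (inf_le_left : (U' U).1 ≤ _)) =
        (f i).app U.1 ≫ (pullback.fst (f i ≫ p) q).appLE (f i ⁻¹ᵁ U.1) _ hle := by
      rw [Scheme.Hom.app_eq_appLE (f i), Scheme.Hom.appLE_comp_appLE]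
      congr 1
      exact pullback.lift_fst _ _ _
    rw [key, CategoryTheory.comp_apply, h0, map_zero]

end RedImgLib
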